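import Groth.Prelude.Def_W4c6intromoduliQuartic
import Mathlib.Tactic.Ring
import Mathlib.Tactic.LinearCombination
import Mathlib.Tactic.FinCases
import Mathlib.Algebra.Field.Basic
import Mathlib.Algebra.MvPolynomial.CommRing

/-!
Split binary quartics: invariants in the brackets, projective transformations from three points.
-/

set_option autoImplicit false

universe u

open W4c6intromoduli

namespace Groth.Agent.H20Quartic

/-- the bracket of two root points -/
def br {R : Type u} [CommRing R] (la mu : Fin 4 → R) (i j : Fin 4) : R := la i * mu j - la j * mu i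

/-- `[12][34]` -/
def cp {R : Type u} [CommRing R] (la mu : Fin 4 → R) : R := br la mu 0 1 * br la mu 2 3

/-- `[14][23]` -/
def cr {R : Type u} [CommRing R] (la mu : Fin 4 → R) : R := br la mu 0 3 * br la mu 1 2

section
variable {R : Type u} [CommRing R] (la mu : Fin 4 → R)

theorem rootPoly_eq : rootPoly la mu =
      Polynomial.C (mu 0 * mu 1 * mu 2 * mu 3) +
      Polynomial.C (-(la 0 * mu 1 * mu 2 * mu 3 + mu 0 * la 1 * mu 2 * mu 3 + mu 0 * mu 1 * la 2 * mu 3 + mu 0 * mu 1 * mu 2 * la 3)) * Polynomial.X +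
      Polynomial.C (la 0 * la 1 * mu 2 * mu 3 + la 0 * mu 1 * la 2 * mu 3 + la 0 * mu 1 * mu 2 * la 3 +
        mu 0 * la 1 * la 2 * mu 3 + mu 0 * la 1 * mu 2 * la 3 + mu 0 * mu 1 * la 2 * la 3) * Polynomial.X ^ 2 +
      Polynomial.C (-(mu 0 * la 1 * la 2 * la 3 + la 0 * mu 1 * la 2 * la 3 + la 0 * la 1 * mu 2 * la 3 + la 0 * la 1 * la 2 * mu 3)) * Polynomial.X ^ 3 +
      Polynomial.C (la 0 * la 1 * la 2 * la 3) * Polynomial.X ^ 4 := by
  rw [rootPoly, Fin.prod_univ_four]
  simp only [map_mul, map_add, map_neg]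
  ring

theorem coef_eq : coef la mu 0 = mu 0 * mu 1 * mu 2 * mu 3 ∧
    coef la mu 1 = -(la 0 * mu 1 * mu 2 * mu 3 + mu 0 * la 1 * mu 2 * mu 3 + mu 0 * mu 1 * la 2 * mu 3 + mu 0 * mu 1 * mu 2 * la 3) ∧
    coef la mu 2 = la 0 * la 1 * mu 2 * mu 3 + la 0 * mu 1 * la 2 * mu 3 + la 0 * mu 1 * mu 2 * la 3 +
        mu 0 * la 1 * la 2 * mu 3 + mu 0 * la 1 * mu 2 * la 3 + mu 0 * mu 1 * la 2 * la 3 ∧
    coef la mu 3 = -(mu 0 * la 1 * la 2 * la 3 + la 0 * mu 1 * la 2 * la 3 + la 0 * la 1 * mu 2 * la 3 + la 0 * la 1 * la 2 * mu 3) ∧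
    coef la mu 4 = la 0 * la 1 * la 2 * la 3 := by
  simp only [coef, rootPoly_eq, Polynomial.coeff_add, Polynomial.coeff_C_mul, Polynomial.coeff_X_pow,
    Polynomial.coeff_X, Polynomial.coeff_C, OfNat.ofNat_ne_zero, OfNat.zero_ne_ofNat, OfNat.one_ne_ofNat, OfNat.ofNat_ne_one,
    one_ne_zero, zero_ne_one, if_true, if_false, mul_one, mul_zero, add_zero, zero_add]
  norm_num

theorem invI_eq : invI (coef la mu) = cp la mu ^ 2 + cp la mu * cr la mu + cr la mu ^ 2 := by
  obtain ⟨h0, h1, h2, h3, h4⟩ := coef_eq la mu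
  rw [invI, h0, h1, h2, h3, h4, cp, cr, br, br, br, br]
  ring

set_option maxHeartbeats 4000000 in
theorem invJ_eq : invJ (coef la mu) =
    (cp la mu - cr la mu) * (2 * cp la mu + cr la mu) * (cp la mu + 2 * cr la mu) := by
  obtain ⟨h0, h1, h2, h3, h4⟩ := coef_eq la mu
  rw [invJ, h0, h1, h2, h3, h4, cp, cr, br, br, br, br]
  ring

theorem binForm_perm (σ : Equiv.Perm (Fin 4)) : binForm (la ∘ σ) (mu ∘ σ) = binForm la mu :=
  Equiv.prod_comp σ fun i => MvPolynomial.C (mu i) * MvPolynomial.X 0 - MvPolynomial.C (la i) * MvPolynomial.X 1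

theorem subst_subst (M N : Matrix (Fin 2) (Fin 2) R) (f : MvPolynomial (Fin 2) R) :
    subst N (subst M f) = subst (M * N) f := by
  suffices h : (subst N).comp (subst M) = subst (M * N) from AlgHom.congr_fun h f
  refine MvPolynomial.algHom_ext fun i => ?_
  simp only [subst, AlgHom.comp_apply, MvPolynomial.aeval_X, map_sum, map_mul, MvPolynomial.aeval_C,
    MvPolynomial.algebraMap_eq, Fin.sum_univ_two, Matrix.mul_apply, map_add]
  ring

theorem subst_one (f : MvPolynomial (Fin 2) R) : subst (1 : Matrix (Fin 2) (Fin 2) R) f = f := by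
  suffices h : subst (1 : Matrix (Fin 2) (Fin 2) R) = AlgHom.id R _ from AlgHom.congr_fun h f
  refine MvPolynomial.algHom_ext fun i => ?_
  fin_cases i <;> simp [subst, Fin.sum_univ_two]

end

section
variable {k : Type u} [Field k]

/-- Equivalence from three points and equal cross ratio.  The hypothesis `h` is only needed for the fourth point. -/
theorem equiv_of_cross (la mu la' mu' : Fin 4 → k)
    (h01 : br la mu 0 1 ≠ 0) (h02 : br la mu 0 2 ≠ 0) (h21 : br la mu 2 1 ≠ 0) (h31 : br la mu 3 1 ≠ 0)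
    (g01 : br la' mu' 0 1 ≠ 0) (g02 : br la' mu' 0 2 ≠ 0) (g21 : br la' mu' 2 1 ≠ 0) (g31 : br la' mu' 3 1 ≠ 0)
    (h : cp la mu * cr la' mu' = cr la mu * cp la' mu') :
    ∃ (M : Matrix (Fin 2) (Fin 2) k) (c : k), IsUnit M.det ∧ c ≠ 0 ∧
      binForm la' mu' = MvPolynomial.C c * subst M (binForm la mu) := by
  let D := br la mu 0 1
  let c1 := br la' mu' 2 1 * br la mu 0 2 * D * br la' mu' 3 1
  let c2 := br la' mu' 0 2 * br la mu 2 1 * D * br la' mu' 3 1
  let c3 := br la mu 2 1 * br la mu 0 2 * br la' mu' 0 1 * br la' mu' 3 1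
  let c4 := br la mu 3 1 * br la' mu' 2 1 * br la mu 0 2 * br la' mu' 0 1
  let M : Matrix (Fin 2) (Fin 2) k :=
    !![-la 1 * (c1 * mu' 0) + la 0 * (c2 * mu' 1), la 1 * (c1 * la' 0) - la 0 * (c2 * la' 1);
       -mu 1 * (c1 * mu' 0) + mu 0 * (c2 * mu' 1), mu 1 * (c1 * la' 0) - mu 0 * (c2 * la' 1)]
  let c : Fin 4 → k := ![D * c1, D * c2, D * c3, D * c4]
  have hl : ∀ i, subst M (MvPolynomial.C (mu i) * MvPolynomial.X 0 - MvPolynomial.C (la i) * MvPolynomial.X 1) =
      MvPolynomial.C (c i) * (MvPolynomial.C (mu' i) * MvPolynomial.X 0 - MvPolynomial.C (la' i) * MvPolynomial.X 1) := by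
    intro i
    have e : subst M (MvPolynomial.C (mu i) * MvPolynomial.X 0 - MvPolynomial.C (la i) * MvPolynomial.X 1) =
        MvPolynomial.C (mu i * M 0 0 - la i * M 1 0) * MvPolynomial.X 0 +
        MvPolynomial.C (mu i * M 0 1 - la i * M 1 1) * MvPolynomial.X 1 := by
      simp only [subst, map_sub, map_mul, MvPolynomial.aeval_C, MvPolynomial.algebraMap_eq, MvPolynomial.aeval_X,
        Fin.sum_univ_two]
      ring
    have e0 : mu i * M 0 0 - la i * M 1 0 = c i * mu' i ∧ mu i * M 0 1 - la i * M 1 1 = -(c i * la' i) := by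
      simp only [M, Matrix.cons_val', Matrix.cons_val_zero, Matrix.cons_val_one, Matrix.of_apply, Matrix.empty_val',
        Matrix.cons_val_fin_one]
      fin_cases i
      · simp [c, D, c1, c2, br]; constructor <;> ring
      · simp [c, D, c1, c2, br]; constructor <;> ring
      · simp [c, D, c1, c2, c3, br]; constructor <;> ring
      · simp only [cp, cr, br] at h
        simp [c, D, c1, c2, c4, br]
        constructor
        · linear_combination (-mu' 1 * (la 0 * mu 1 - la 1 * mu 0)) * h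
        · linear_combination (la' 1 * (la 0 * mu 1 - la 1 * mu 0)) * h
    rw [e, e0.1, e0.2]
    simp only [map_mul, map_neg]
    ring
  have hc : ∀ i, c i ≠ 0 := by
    intro i
    fin_cases i <;> simp [c, D, c1, c2, c3, c4, h01, h02, h21, h31, g01, g02, g21, g31]
  refine ⟨M, (∏ i, c i)⁻¹, ?_, inv_ne_zero (Finset.prod_ne_zero_iff.2 fun i _ => hc i), ?_⟩
  · rw [isUnit_iff_ne_zero]
    have : M.det = br la mu 0 1 * (c1 * c2) * br la' mu' 0 1 := by
      simp only [M, Matrix.det_fin_two_of, br]; ring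
    rw [this]
    simp [c1, c2, D, h01, h02, h21, g01, g02, g21, g31]
  · rw [binForm, binForm, map_prod, Finset.prod_congr rfl (fun i _ => hl i), Finset.prod_mul_distrib, ← map_prod,
      ← mul_assoc, ← map_mul, inv_mul_cancel₀ (Finset.prod_ne_zero_iff.2 fun i _ => hc i), map_one, one_mul]

/-- transitivity of proportionality of root points -/
theorem br_trans {la mu : Fin 4 → k} {i j l : Fin 4} (hj : la j ≠ 0 ∨ mu j ≠ 0)
    (h1 : br la mu i j = 0) (h2 : br la mu j l = 0) : br la mu i l = 0 := by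
  unfold br at *
  rcases hj with hj | hj
  · refine mul_left_cancel₀ hj ?_
    linear_combination la l * h1 + la i * h2
  · refine mul_left_cancel₀ hj ?_
    linear_combination mu l * h1 + mu i * h2

theorem br_symm {la mu : Fin 4 → k} (i j : Fin 4) : br la mu j i = -br la mu i j := by
  unfold br; ring

end

end Groth.Agent.H20Quartic
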